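import Cfsg.Agent.H175.OT.Uni
import Cfsg.Agent.H336.OT.EndTwo

/-!
# S2539, part 5, case `S_F ∩ -S_F = ∅`: complements to helper175's `UCtx` (helper28)

* `exists_move` : a bad pair `(f, b)` and a subgroup `H ≤ T` centralised by `b`: there is `v ∉ M` with `H^v ≤ N(T)`;
* `false_of_noBad` : no bad pairs, `U` contains no `p`-group normal in `Y`, ... : contradiction (helper336's `end_two`).
-/

set_option autoImplicit false

namespace Cfsg.Agent.H28.OT

open Subgroup Cfsg.Agent.H175.OT Cfsg.Agent.H175.OT.UCtx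

universe u

variable {Y : Type u} [Group Y] {T U M : Subgroup Y}

theorem exists_move [Finite Y] (h : UCtx T U M) {f b : Y} (hb : Bad T M f b) {H : Subgroup Y} (hHT : H ≤ T)
    (hbH : ∀ y ∈ H, b * y = y * b) :
    ∃ v, v ∉ M ∧ ∀ y ∈ H, v * y * v⁻¹ ∈ normalizer (T : Set Y) := by
  have htZ : f * b * f⁻¹ ∉ center Y := by
    intro h1
    apply hb.ne
    have h2 : f⁻¹ * (f * b * f⁻¹) * f⁻¹⁻¹ ∈ center Y := Normal.conj_mem inferInstance _ h1 _
    have e : f⁻¹ * (f * b * f⁻¹) * f⁻¹⁻¹ = b := by group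
    rwa [e] at h2
  set H' : Subgroup Y := H.map (MulAut.conj f).toMonoidHom with hH'
  have hHM : H' ≤ M := by
    rintro _ ⟨y, hy, rfl⟩
    refine h.cent_le hb.tor htZ ?_
    change f * y * f⁻¹ * (f * b * f⁻¹) = f * b * f⁻¹ * (f * y * f⁻¹)
    calc f * y * f⁻¹ * (f * b * f⁻¹) = f * (y * b) * f⁻¹ := by group
      _ = f * (b * y) * f⁻¹ := by rw [hbH y hy]
      _ = f * b * f⁻¹ * (f * y * f⁻¹) := by group
  have hcard : Nat.card H' = Nat.card H :=
    Nat.card_congr (H.equivMapOfInjective _ (MulAut.conj f).injective).symm.toEquiv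
  have hcop : (Nat.card U).Coprime (Nat.card H') := by
    rw [hcard]
    exact Nat.Coprime.coprime_dvd_right (card_dvd_of_le hHT) h.cop
  obtain ⟨u, hu, huN⟩ := h.exists_conj_norm hHM hcop
  refine ⟨u * f, fun h1 => hb.nf ?_, fun y hy => ?_⟩
  · have h4 := mul_mem (inv_mem (h.UM hu)) h1
    rwa [inv_mul_cancel_left] at h4
  · have h1 := huN (f * y * f⁻¹) ⟨y, hy, rfl⟩
    have e : u * (f * y * f⁻¹) * u⁻¹ = u * f * y * (u * f)⁻¹ := by group
    rwa [e] at h1

/-- a normal `p`-subgroup lies in every Sylow `p`-subgroup -/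
theorem normal_le_sylow {G : Type*} [Group G] {p : ℕ} {N : Subgroup G} (hN : N.Normal) (hp : IsPGroup p N)
    (P : Sylow p G) : N ≤ P := by
  have h1 : IsPGroup p ↥((P : Subgroup G) ⊔ N) := P.isPGroup'.to_sup_of_normal_right hp
  have h2 := P.is_maximal' h1 le_sup_left
  rw [← h2]
  exact le_sup_right

/-- `U` meets the normal subgroups of `Y` contained in `M` trivially -/
theorem inf_eq_bot_of_normal [Finite Y] {p : ℕ} [Fact p.Prime] (h : UCtx T U M) (hUp : IsPGroup p U)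
    (hop : ∀ Q : Subgroup Y, Q.Normal → IsPGroup p Q → Q = ⊥) {X : Subgroup Y} (hX : X.Normal) (hXM : X ≤ M) :
    X ⊓ U = ⊥ := by
  obtain ⟨P⟩ : Nonempty (Sylow p X) := inferInstance
  have key : ∀ g : Y, ∀ x ∈ X ⊓ U, ∃ hx : g * x * g⁻¹ ∈ X, (⟨g * x * g⁻¹, hx⟩ : X) ∈ (P : Subgroup X) := by
    intro g x hx
    have hgx : g * x * g⁻¹ ∈ X := hX.conj_mem x hx.1 g
    refine ⟨hgx, ?_⟩
    set N : Subgroup X := ((X ⊓ U).map (MulAut.conj g).toMonoidHom).subgroupOf X with hN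
    have hNn : N.Normal := by
      refine ⟨fun y hy z => ?_⟩
      rw [hN, mem_subgroupOf] at hy ⊢
      obtain ⟨v, hv, e⟩ := hy
      change g * v * g⁻¹ = y at e
      have hz : g⁻¹ * z * g ∈ X := by
        have := hX.conj_mem z z.2 g⁻¹
        rwa [inv_inv] at this
      refine ⟨(g⁻¹ * z * g) * v * (g⁻¹ * z * g)⁻¹, ⟨hX.conj_mem v hv.1 _, h.conj_mem_U (hXM hz) hv.2⟩, ?_⟩
      change g * ((g⁻¹ * z * g) * v * (g⁻¹ * z * g)⁻¹) * g⁻¹ = ((z * y * z⁻¹ : X) : Y)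
      push_cast
      rw [← e]
      group
    have hNp : IsPGroup p N := ((hUp.to_le inf_le_right).map _).comap_subtype
    exact normal_le_sylow hNn hNp P (by
      rw [hN, mem_subgroupOf]
      exact ⟨x, hx, rfl⟩)
  have h1 : normalClosure ((X ⊓ U : Subgroup Y) : Set Y) ≤ (P : Subgroup X).map X.subtype := by
    rw [normalClosure, closure_le]
    intro y hy
    obtain ⟨x, hx, hc⟩ := Group.mem_conjugatesOfSet_iff.1 hy
    obtain ⟨g, e⟩ := isConj_iff.1 hc
    obtain ⟨hgx, h2⟩ := key g x hx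
    rw [← e]
    exact ⟨_, h2, rfl⟩
  have h2 := hop _ normalClosure_normal ((P.isPGroup'.map X.subtype).to_le h1)
  rw [eq_bot_iff, ← h2]
  exact le_normalClosure

/-- **The end of the unipotent case.** -/
theorem false_of_noBad [Finite Y] {p : ℕ} [Fact p.Prime] (h : UCtx T U M) (hUp : IsPGroup p U) (hU1 : U ≠ ⊥)
    (hop : ∀ Q : Subgroup Y, Q.Normal → IsPGroup p Q → Q = ⊥)
    (hbad : ∀ f b, Bad T M f b → b ∈ normalizer (T : Set Y) → False)
    (hinv : ∃ s ∈ T, ∃ t ∈ T, s ^ 2 ∈ center Y ∧ t ^ 2 ∈ center Y ∧ s ∉ center Y ∧ t ∉ center Y ∧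
      s * t⁻¹ ∉ center Y)
    (hel : ∃ t ∈ T, t ^ 2 ∉ center Y) : False := by
  classical
  have hb : ∀ f b, ¬ Bad T M f b := by
    intro f b h1
    obtain ⟨f', b', h2, h3⟩ := h1.exists_norm h
    exact hbad f' b' h2 h3
  set X := M.normalCore with hX
  have hXn : X.Normal := inferInstance
  have hXM : X ≤ M := M.normalCore_le
  have hcX : center Y ≤ X := normal_le_normalCore.2 (h.center_le.trans h.TM)
  have h1 := inf_eq_bot_of_normal h hUp hop hXn hXM
  -- `X` centralises `U`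
  have h2 : U ≤ centralizer (X : Set Y) := by
    intro u hu
    rw [mem_centralizer_iff]
    intro x hx
    have h3 : x * u * x⁻¹ * u⁻¹ ∈ X ⊓ U := by
      refine mem_inf.2 ⟨?_, mul_mem (h.conj_mem_U (hXM hx) hu) (inv_mem hu)⟩
      have e : x * u * x⁻¹ * u⁻¹ = x * (u * x⁻¹ * u⁻¹) := by group
      rw [e]
      exact mul_mem hx (hXn.conj_mem _ (inv_mem hx) _)
    rw [h1, mem_bot, mul_inv_eq_one, mul_inv_eq_iff_eq_mul] at h3
    exact h3
  have hcn : (centralizer (X : Set Y)).Normal := inferInstance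
  set E := normalClosure (U : Set Y) with hE
  have h3 : E ≤ centralizer (X : Set Y) := normalClosure_le_normal h2
  have h4 : ¬ E ≤ M := by
    intro h5
    apply hU1
    have h6 : E ≤ X := normal_le_normalCore.2 h5
    rw [eq_bot_iff, ← h1]
    exact le_inf (le_normalClosure.trans h6) le_rfl
  have h5 : E ⊔ T = ⊤ := by
    by_contra h6
    exact h4 (le_sup_left.trans (h.ovr _ le_sup_right h6))
  have h6 : ∀ x ∈ X, x ∈ T → x ∈ center Y := by
    intro x hx hxT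
    have h7 : E ⊔ T ≤ centralizer {x} := by
      refine sup_le (fun e he => ?_) fun t ht => ?_
      · rw [mem_centralizer_singleton_iff]
        exact (mem_centralizer_iff.1 (h3 he) x hx).symm
      · rw [mem_centralizer_singleton_iff]
        exact h.comm t ht x hxT
    rw [h5] at h7
    rw [mem_center_iff]
    intro y
    exact mem_centralizer_singleton_iff.1 (h7 (mem_top y))
  -- the quotient
  let π := QuotientGroup.mk' X
  have hπ : Function.Surjective π := QuotientGroup.mk'_surjective _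
  have hk : ∀ {x : Y}, π x = 1 ↔ x ∈ X := fun {x} => QuotientGroup.eq_one_iff x
  have hM : ∀ {x : Y}, π x ∈ M.map π ↔ x ∈ M := by
    intro x
    constructor
    · rintro ⟨y, hy, e⟩
      have h1 : y⁻¹ * x ∈ X := by
        rw [← hk, map_mul, map_inv, e, inv_mul_cancel]
      have e2 : x = y * (y⁻¹ * x) := by group
      rw [e2]
      exact mul_mem hy (hXM h1)
    · exact fun hx => ⟨x, hx, rfl⟩
  have hcz : ∀ {x : Y}, x ∈ T → (π x = 1 ↔ x ∈ center Y) := fun {x} hx =>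
    ⟨fun e => h6 x (hk.1 e) hx, fun e => hk.2 (hcX e)⟩
  obtain ⟨s₀, hs₀, t₀, ht₀, hs2, ht2, hs1, ht1, hst⟩ := hinv
  obtain ⟨t₁, ht₁, ht₁2⟩ := hel
  have ho : ∀ {x : Y}, x ∈ T → x ^ 2 ∈ center Y → x ∉ center Y → orderOf (π x) = 2 := fun {x} hx h7 h8 =>
    orderOf_eq_prime (by rw [← map_pow, hcz (pow_mem hx 2)]; exact h7) (fun e => h8 ((hcz hx).1 e))
  refine H336.OT.end_two (M.map π) (T.map π) (U.map π) (map_mono h.TM) ?_ (map_mono h.UM) ?_ ?_ ?_ ?_ ?_ ?_
    ⟨π s₀, ⟨s₀, hs₀, rfl⟩, π t₀, ⟨t₀, ht₀, rfl⟩, ho hs₀ hs2 hs1, ho ht₀ ht2 ht1, ?_⟩ ⟨π t₁, ⟨t₁, ht₁, rfl⟩, ?_⟩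
  · rintro _ ⟨x, hx, rfl⟩ _ ⟨y, hy, rfl⟩
    rw [← map_mul, ← map_mul, h.comm x hx y hy]
  · exact Odd.of_dvd_nat h.odd (card_map_dvd U π)
  · rintro _ ⟨m, hm, rfl⟩ _ ⟨x, hx, rfl⟩
    exact ⟨m * x * m⁻¹, h.conj_mem_U hm hx, by rw [map_mul, map_mul, map_inv]⟩
  · rintro _ ⟨m, hm, rfl⟩ _ ⟨x, hx, rfl⟩
    rw [← Subgroup.map_sup]
    refine ⟨m * x * m⁻¹, ?_, by rw [map_mul, map_mul, map_inv]⟩
    obtain ⟨u, hu, n, hn, rfl⟩ := h.dec m hm
    have e : u * n * x * (u * n)⁻¹ = (n * x * n⁻¹) * ((n * x * n⁻¹)⁻¹ * u * (n * x * n⁻¹)⁻¹⁻¹ * u⁻¹) := by group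
    rw [e]
    have hx' : n * x * n⁻¹ ∈ T := (mem_normalizer_iff.1 hn x).1 hx
    exact mul_mem (mem_sup_left hx') (mem_sup_right (mul_mem (h.conj_mem_U (h.TM (inv_mem hx')) hu) (inv_mem hu)))
  · rintro _ ⟨t, ht, rfl⟩ hot g hg
    obtain ⟨g, rfl⟩ := hπ g
    rw [← map_inv, ← map_mul, ← map_mul, hM] at hg
    rw [hM]
    by_contra hgM
    have ht2' : t ^ 2 ∈ center Y := by
      have h7 : π t ^ 2 = 1 := by rw [← hot, pow_orderOf_eq_one]
      rw [← map_pow] at h7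
      exact (hcz (pow_mem ht 2)).1 h7
    have htc : t ∉ center Y := by
      intro h8
      rw [(hcz ht).2 h8, orderOf_one] at hot
      exact absurd hot (by norm_num)
    refine hb g⁻¹ (g * t * g⁻¹) ⟨fun h8 => hgM ?_, hg, ?_, fun h8 => htc ?_, ?_⟩
    · simpa using inv_mem h8
    · have e : g⁻¹ * (g * t * g⁻¹) * g⁻¹⁻¹ = t := by group
      rw [e]
      exact ht
    · have h9 : g⁻¹ * (g * t * g⁻¹) * g⁻¹⁻¹ ∈ center Y := Normal.conj_mem inferInstance _ h8 _
      have e : g⁻¹ * (g * t * g⁻¹) * g⁻¹⁻¹ = t := by group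
      rwa [e] at h9
    · rw [conj_pow]
      exact Normal.conj_mem inferInstance _ ht2' _
  · intro H hTH hH
    have h7 : T ≤ H.comap π := fun t ht => hTH ⟨t, ht, rfl⟩
    have h8 : H.comap π ≠ ⊤ := by
      intro e
      apply hH
      rw [eq_top_iff]
      intro y _
      obtain ⟨y, rfl⟩ := hπ y
      have : y ∈ H.comap π := by rw [e]; exact mem_top y
      exact this
    have h9 := h.ovr _ h7 h8
    intro y hy
    obtain ⟨y, rfl⟩ := hπ y
    exact ⟨y, h9 hy, rfl⟩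
  · intro Z hZ hZM
    have h7 : Z.comap π ≤ X := normal_le_normalCore.2 fun y hy => hM.1 (hZM hy)
    rw [eq_bot_iff]
    intro y hy
    obtain ⟨y, rfl⟩ := hπ y
    rw [mem_bot, hk]
    exact h7 hy
  · intro e
    apply hst
    rw [← hcz (mul_mem hs₀ (inv_mem ht₀)), map_mul, map_inv, e, mul_inv_cancel]
  · rw [← map_mul, Ne, hcz (mul_mem ht₁ ht₁), ← pow_two]
    exact ht₁2

end Cfsg.Agent.H28.OT
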