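import Cfsg.Agent.H28.OT.UConc
import Cfsg.Agent.H28.OT.UAbs
import Cfsg.Agent.H893.OT.KPrime
import Cfsg.Agent.H428.OT.LTC
import Cfsg.Agent.H3.OT.Weyl

/-!
# S2539, part 5, case `S_F ∩ -S_F = ∅`: no bad pairs (helper28)

`no_bad` : `F` least non-good, `S_F ≠ ∅`, `S_F ∩ -S_F = ∅`. If every involutive isometry `w` of the roots fixes a root
not orthogonal to `a` unless `wa = -a`, then there is no bad pair (`H175.OT.Bad`) with `b ∈ N(T)`.
-/

set_option autoImplicit false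
set_option linter.unusedSectionVars false

namespace Cfsg.Agent.H28.OT

open Subgroup Cfsg.Lie Cfsg.Agent.ChevalleyStructure Cfsg.Agent.ChevalleyStructure.Elts Cfsg.Agent.H412.OT
open Cfsg.Agent.ChevalleyStructure.NPerm

universe u

/-- Involutive isometries of the roots fix a root not orthogonal to `a`, or map `a` to `-a`. -/
def FixRoot (D : ChevalleyDatum) : Prop :=
  ∀ w : ℕ → ℕ, (∀ g < D.nroots, w g < D.nroots) → (∀ g < D.nroots, w (w g) = g) →
    (∀ r < D.nroots, ∀ s < D.nroots, pr D (w r) (w s) = pr D r s) → ∀ a < D.nroots, w a ≠ D.neg a →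
    ∃ g < D.nroots, w g = g ∧ pr D g a ≠ 0

variable {D : ChevalleyDatum} {K : Type u} [Field K] [Fintype K] {p : ℕ} [Fact p.Prime] [CharP K p]
  {F : Subgroup (GL D.Idx K)}

/-- `c ^ k = 1` for all `c` and `|k| < q - 1` : `k = 0` -/
theorem zpow_zero_of {k : ℤ} (hk : |k| < (Fintype.card K - 1 : ℕ)) (hc : ∀ c : K, c ≠ 0 → c ^ k = 1) :
    k = 0 := by
  obtain ⟨γ, hγ⟩ := H893.OT.exists_gen K
  have h1 := hc γ γ.ne_zero
  exact Int.eq_zero_of_abs_lt_dvd (H893.OT.dvd_of_zpow hγ h1) hk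

/-- an element of `N_F(T)` commutes with `h_g(c)` if it fixes `g` -/
theorem comm_of_fix (hD : InList D) (n : ↥(D.monomialSubgroup K)) (g : Fin D.nroots)
    (hg : permHom hD K n g = g) {c : K} (hc : c ≠ 0) :
    (n : GL D.Idx K) * hG hD g c = hG hD g c * (n : GL D.Idx K) := by
  have h1 : (n : GL D.Idx K) * hG hD g c * (n : GL D.Idx K)⁻¹ = hG hD g c := by
    refine H893.OT.eq_of_chi hD (H3.OT.conj_mem_tor hD n (hG_mem hD g.2 hc)) (hG_mem hD g.2 hc) fun s hs => ?_
    obtain ⟨s', hs'⟩ := (permHom hD K n).surjective ⟨s, hs⟩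
    have e : s = (permHom hD K n s' : Fin D.nroots) := (congrArg Fin.val hs').symm
    rw [e, H3.OT.chi_perm hD n (hG_mem hD g.2 hc), chi_hG hD g.2 s'.2 hc, chi_hG hD g.2 (Fin.is_lt _) hc]
    conv_rhs => rw [← hg]
    rw [H3.OT.pr_perm hD n g s']
  calc (n : GL D.Idx K) * hG hD g c = (n : GL D.Idx K) * hG hD g c * (n : GL D.Idx K)⁻¹ * n := by group
    _ = _ := by rw [h1]

/-- **No bad pairs with `b ∈ N(T)`.** -/
theorem no_bad (h : Hyp K p D) (hp2 : p ≠ 2) (hF : MinBad D K F) (hcl : Closed D (SF D K F))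
    (hne : (SF D K F).Nonempty) (hS : ∀ r ∈ SF D K F, D.neg r ∉ SF D K F) (hfix : FixRoot D) {f b : F}
    (hb : H175.OT.UCtx.Bad ((D.diagonalSubgroup K).subgroupOf F) ((MF D K F).subgroupOf F) f b)
    (hbN : b ∈ normalizer (((D.diagonalSubgroup K).subgroupOf F : Subgroup F) : Set F)) : False := by
  classical
  have hD := h.inList
  have hU := uctx h hp2 hF hcl hne hS
  have hq : 13 ≤ Fintype.card K := h.card
  have hbN' : (b : GL D.Idx K) ∈ normalizer (D.diagonalSubgroup K : Set (GL D.Idx K)) := (mem_norm_sub hF.tor).1 hbN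
  have hbm := H3.OT.mem_monomial_of_norm hD (by rw [Nat.card_eq_fintype_card]; omega) (hF.le b.2) hbN'
  set n : ↥(D.monomialSubgroup K) := ⟨b, hbm⟩ with hn
  set w := permHom hD K n with hw
  -- `w` is an involution
  have hb2 : b ^ 2 ∈ (D.diagonalSubgroup K).subgroupOf F := hU.center_le hb.sq
  have hww : ∀ r, w (w r) = r := by
    intro r
    have h1 : permHom hD K (n ^ 2) = 1 := permHom_diagonal hD (by
      rw [SubgroupClass.coe_pow]
      exact hb2)
    rw [map_pow, pow_two] at h1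
    exact congrArg (fun e : Equiv.Perm (Fin D.nroots) => e r) h1
  -- a root of `F`
  obtain ⟨s, hs⟩ := hne
  have hws : (w ⟨s, hs.1⟩ : ℕ) ∈ SF D K F := by
    refine ⟨Fin.is_lt _, ?_⟩
    rw [← conj_permHom hD n ⟨s, hs.1⟩]
    rintro _ ⟨x, hx, rfl⟩
    exact mul_mem (mul_mem b.2 (hs.2 hx)) (inv_mem b.2)
  set wN : ℕ → ℕ := fun r => if hr : r < D.nroots then (w ⟨r, hr⟩ : ℕ) else r with hwN
  have hwN' : ∀ r (hr : r < D.nroots), wN r = (w ⟨r, hr⟩ : ℕ) := fun r hr => dif_pos hr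
  obtain ⟨g, hg, hgw, hgs⟩ := hfix wN (fun g hg => by rw [hwN' g hg]; exact Fin.is_lt _)
    (fun g hg => by rw [hwN' g hg, hwN' _ (Fin.is_lt _), Fin.eta, hww])
    (fun r hr s hs => by rw [hwN' r hr, hwN' s hs]; exact H3.OT.pr_perm hD n _ _) s hs.1
    (by
      rw [hwN' s hs.1]
      intro e
      rw [e] at hws
      exact hS s hs hws)
  rw [hwN' g hg] at hgw
  have hfixg : w ⟨g, hg⟩ = ⟨g, hg⟩ := Fin.ext hgw
  -- the elements `h_g(c)`
  have hgF : ∀ c : K, c ≠ 0 → hG hD g c ∈ F := fun c hc => hF.tor (hG_mem hD hg hc)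
  set x : ∀ c : K, c ≠ 0 → F := fun c hc => ⟨hG hD g c, hgF c hc⟩ with hx
  set H : Subgroup F := (Hr D K g).subgroupOf F with hH
  have hHT : H ≤ (D.diagonalSubgroup K).subgroupOf F := fun y hy => by
    rw [hH, mem_subgroupOf] at hy
    rw [mem_subgroupOf]
    exact Hr_le hD hg hy
  obtain ⟨v, hvM, hvN⟩ := exists_move hU hb hHT fun y hy => by
    rw [hH, mem_subgroupOf] at hy
    obtain ⟨c, hc, e⟩ := (H428.OT.mem_Hr_iff hD hg).1 hy
    apply Subtype.ext
    rw [Subgroup.coe_mul, Subgroup.coe_mul, e]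
    exact comm_of_fix hD n ⟨g, hg⟩ hfixg hc
  -- Laurent trick
  have hNv : ∀ c : Kˣ, (v : GL D.Idx K) * H428.OT.dco (H893.OT.ex D [g]) c * (v : GL D.Idx K)⁻¹ ∈
      normalizer (D.diagonalSubgroup K : Set (GL D.Idx K)) := by
    intro c
    have hl : ∀ r ∈ [g], r < D.nroots := fun r hr => by rw [List.mem_singleton.1 hr]; exact hg
    have e1 : H893.OT.hL hD [g] (c : K) = hG hD g (c : K) := by
      simp [H893.OT.hL]
    rw [H893.OT.dco_eq hD hl, e1]
    have h1 := hvN (x c c.ne_zero) (by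
      rw [hH, mem_subgroupOf]
      exact hG_mem_Hr hD g c.ne_zero)
    have h2 := (mem_norm_sub hF.tor).1 h1
    rw [Subgroup.coe_mul, Subgroup.coe_mul, Subgroup.coe_inv] at h2
    exact h2
  have hcomm := H893.OT.lau_sq (K := K) (H893.OT.isDiag hD) (a := -3) (D := 6) (by omega)
    (e := H893.OT.ex D [g]) (by
      rintro (i | r)
      · show (-3 : ℤ) ≤ 0 ∧ (0 : ℤ) ≤ -3 + (6 : ℕ)
        constructor <;> norm_num
      · have h1 := abs_le.1 (H428.OT.abs_pr_le_three hD hg r.2)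
        show (-3 : ℤ) ≤ ([g].map fun r' => pr D r' r).sum ∧ ([g].map fun r' => pr D r' r).sum ≤ -3 + (6 : ℕ)
        simp only [List.map_cons, List.map_nil, List.sum_cons, List.sum_nil, add_zero]
        constructor
        · exact h1.1
        · have := h1.2
          push_cast
          linarith) _ hNv
  have hcen : ∀ c : Kˣ, x ((c ^ 2 : Kˣ) : K) (c ^ 2).ne_zero ∈ center F := by
    intro c
    by_contra hcz
    have hl : ∀ r ∈ [g], r < D.nroots := fun r hr => by rw [List.mem_singleton.1 hr]; exact hg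
    have h1 : v * x ((c ^ 2 : Kˣ) : K) (c ^ 2).ne_zero * v⁻¹ ∈ (D.diagonalSubgroup K).subgroupOf F := by
      refine hU.cT _ fun t ht => Subtype.ext ?_
      have h2 := hcomm c t ht
      have e1 : H893.OT.hL hD [g] ((c ^ 2 : Kˣ) : K) = hG hD g ((c ^ 2 : Kˣ) : K) := by
        simp [H893.OT.hL]
      rw [H893.OT.dco_eq hD hl, e1] at h2
      rw [Subgroup.coe_mul, Subgroup.coe_mul, Subgroup.coe_mul, Subgroup.coe_mul, Subgroup.coe_inv]
      exact h2
    exact hvM (hU.mem_of_conj (f := v) (t := x ((c ^ 2 : Kˣ) : K) (c ^ 2).ne_zero)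
      (hG_mem hD hg (c ^ 2).ne_zero) hcz h1)
  -- the action on `X_s`
  apply hgs
  have h5 : ∀ c : K, c ≠ 0 → c ^ (2 * pr D g s) = 1 := by
    intro c hc
    have h1 := hcen (Units.mk0 c hc)
    rw [mem_center_iff] at h1
    have h2 : xG hD s 1 ∈ F := hs.2 (xG_mem_rootSubgroup hD s 1)
    have h3 := congrArg Subtype.val (h1 ⟨xG hD s 1, h2⟩)
    have h4 : xG hD s 1 * hG hD g (c ^ 2) = hG hD g (c ^ 2) * xG hD s (1 : K) := by
      simpa [hx] using h3
    have hc2 : c ^ 2 ≠ 0 := pow_ne_zero 2 hc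
    have h6 := hG_conj_xG hD hg hs.1 hc2 (1 : K)
    rw [← h4, mul_inv_cancel_right] at h6
    have h7 := xG_injective hD hs.1 h6
    rw [mul_one] at h7
    rw [zpow_mul, zpow_ofNat]
    exact h7.symm
  have h6 := abs_le.1 (H428.OT.abs_pr_le_three hD hg hs.1)
  have h7 : (2 * pr D g s) = 0 := zpow_zero_of (K := K) (by
    rw [abs_lt]
    have : (12 : ℤ) ≤ ((Fintype.card K - 1 : ℕ) : ℤ) := by
      have : 12 ≤ Fintype.card K - 1 := by omega
      exact_mod_cast this
    constructor <;> linarith [h6.1, h6.2]) h5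
  linarith

end Cfsg.Agent.H28.OT
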