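import Cfsg.Agent.H28.OT.UConc
import Cfsg.Agent.H28.OT.UAbs
import Cfsg.Agent.H175.OT.P
import Cfsg.Agent.H501.OT.Long

/-!
# S2539, part 5, case `S_F ∩ -S_F = ∅`: the roots trivial on `Z(F)` (helper28)

* `le_GS` : `F ≤ ⟨T, X_a : a ∈ Psi⟩`;
* `exists_psi` : for `s ∈ S_F` there is `b ∈ Psi`, `b ≠ ±s`, not orthogonal to `s`.
-/

set_option autoImplicit false
set_option linter.unusedSectionVars false

namespace Cfsg.Agent.H28.OT

open Subgroup Cfsg.Lie Cfsg.Lie.ChevalleyDatum Cfsg.Agent.ChevalleyStructure Cfsg.Agent.ChevalleyStructure.Elts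
open Cfsg.Agent.H412.OT Cfsg.Agent.H194.OT Cfsg.Agent.H175.OT
open Cfsg.Agent.ChevalleyStructure.NPerm Cfsg.Agent.ChevalleyStructure.RootVec Cfsg.Agent.ChevalleyStructure.RootVecTab
open Cfsg.Agent.ChevalleyStructure.CoxeterGeomTypes Cfsg.Agent.Nodes Cfsg.Agent.Nodes.RGDChev
open Cfsg.Agent.ChevalleyStructure.SL2Hom (up lo)
open Cfsg.Agent.H186.OT (Zf mem_Zf coe_mem_Zf Psi)

universe u

section Roots

variable {D : ChevalleyDatum}

/-- `⟨·, t^∨⟩` is additive -/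
theorem pr_of_rt (h : Checked D) {u r s : ℕ} {a b : ℤ} (hu : u < D.nroots) (hr : r < D.nroots)
    (hs : s < D.nroots) (e : ∀ i < D.rank, rt D u i = a * rt D r i + b * rt D s i) (t : ℕ) :
    pr D t u = a * pr D t r + b * pr D t s := by
  change ∑ i ∈ Finset.range D.rank, (D.coroot.getD t #[]).getD i 0 * D.cartan i u =
    a * (∑ i ∈ Finset.range D.rank, (D.coroot.getD t #[]).getD i 0 * D.cartan i r) +
      b * ∑ i ∈ Finset.range D.rank, (D.coroot.getD t #[]).getD i 0 * D.cartan i s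
  rw [Finset.mul_sum, Finset.mul_sum, ← Finset.sum_add_distrib]
  refine Finset.sum_congr rfl fun i hi => ?_
  rw [cartan_of_rt h hu hr hs e (Finset.mem_range.1 hi)]
  ring

theorem pr_neg_right (hD : InList D) {r s : ℕ} (hs : s < D.nroots) : pr D r (D.neg s) = - pr D r s := by
  change ∑ i ∈ Finset.range D.rank, (D.coroot.getD r #[]).getD i 0 * D.cartan i (D.neg s) =
    -∑ i ∈ Finset.range D.rank, (D.coroot.getD r #[]).getD i 0 * D.cartan i s
  rw [← Finset.sum_neg_distrib]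
  refine Finset.sum_congr rfl fun i hi => ?_
  rw [NBlock.cartan_neg hD i hs, mul_neg]

theorem pr_zero_comm (hD : InList D) {r s : ℕ} (hr : r < D.nroots) (hs : s < D.nroots) (h : pr D r s = 0) :
    pr D s r = 0 := by
  obtain ⟨l, M, hp⟩ := H3.OT.exists_isType hD
  have cs := M.toCoxeterSystem
  have := finite_W hp cs
  have := Fintype.ofFinite M.Group
  rw [H501.OT.pr_eq hp cs hr hs, Cfsg.Agent.Nodes.Coroot.cpr_zero_iff cs hp.isCartan _ (isRoot_vec hp cs hr)] at h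
  rw [H501.OT.pr_eq hp cs hs hr, Cfsg.Agent.Nodes.Coroot.cpr_zero_iff cs hp.isCartan _ (isRoot_vec hp cs hs)]
  rw [Cfsg.Agent.Tits.Roots.form_comm]
  exact h

end Roots

variable {D : ChevalleyDatum} {K : Type u} [Field K]

theorem chi_eq_prod (hD : InList D) {t : GL D.Idx K} (ht : t ∈ D.diagonalSubgroup K) :
    ∃ c : ℕ → K, (∀ i < D.rank, c i ≠ 0) ∧ ∀ s < D.nroots, chi D K t s = ∏ i ∈ Finset.range D.rank, c i ^ D.cartan i s := by
  obtain ⟨c, hc, e, -⟩ := tor_data hD ht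
  refine ⟨c, hc, fun s hs => ?_⟩
  rw [chi, dif_pos hs, e, Matrix.diagonal_apply_eq, Sum.elim_inr]

theorem chi_of_rt (hD : InList D) {t : GL D.Idx K} (ht : t ∈ D.diagonalSubgroup K) {u r s : ℕ} {a b : ℤ}
    (hu : u < D.nroots) (hr : r < D.nroots) (hs : s < D.nroots)
    (e : ∀ i < D.rank, rt D u i = a * rt D r i + b * rt D s i) :
    chi D K t u = chi D K t r ^ a * chi D K t s ^ b := by
  obtain ⟨c, hc, h1⟩ := chi_eq_prod hD ht
  rw [h1 u hu, h1 r hr, h1 s hs, ← Finset.prod_zpow, ← Finset.prod_zpow, ← Finset.prod_mul_distrib]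
  refine Finset.prod_congr rfl fun i hi => ?_
  rw [cartan_of_rt (checked_of_mem hD) hu hr hs e (Finset.mem_range.1 hi), zpow_add₀ (hc i (Finset.mem_range.1 hi)),
    zpow_mul', zpow_mul']

variable {F : Subgroup (GL D.Idx K)}

/-- the set `Psi` is closed under sums -/
theorem psi_of_rt (hD : InList D) (hZ : Zf F ≤ D.diagonalSubgroup K) {u r s : ℕ} {a b : ℤ}
    (hu : u < D.nroots) (hr : r ∈ Psi D K F) (hs : s ∈ Psi D K F)
    (e : ∀ i < D.rank, rt D u i = a * rt D r i + b * rt D s i) : u ∈ Psi D K F := by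
  refine ⟨hu, fun z hz => ?_⟩
  rw [chi_of_rt hD (hZ hz) hu hr.1 hs.1 e, hr.2 z hz, hs.2 z hz, one_zpow, one_zpow, mul_one]

theorem neg_mem_psi (hD : InList D) (hZ : Zf F ≤ D.diagonalSubgroup K) {r : ℕ} (hr : r ∈ Psi D K F) :
    D.neg r ∈ Psi D K F := by
  refine ⟨NPerm.neg_lt hD hr.1, fun z hz => ?_⟩
  rw [chi_neg hD (hZ hz) hr.1, hr.2 z hz, inv_one]

theorem mem_psi_of_SF (hD : InList D) (hZ : Zf F ≤ D.diagonalSubgroup K) {s : ℕ} (hs : s ∈ SF D K F) :
    s ∈ Psi D K F := by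
  refine ⟨hs.1, fun z hz => ?_⟩
  have h1 := (mem_Zf.1 hz).2 (xG hD s 1) (hs.2 (xG_mem_rootSubgroup hD s 1))
  have h2 := tor_conj_xG hD (hZ hz) hs.1 (1 : K)
  rw [← h1, mul_inv_cancel_right, mul_one] at h2
  exact (xG_injective hD hs.1 h2).symm

/-- orthogonal roots `a`, `b` of `Psi` such that `Psi` contains no root `≠ ±a` that is not orthogonal to `a`: the root
elements commute -/
theorem comm_of_orth (hD : InList D) (hZ : Zf F ≤ D.diagonalSubgroup K) {a b : ℕ} (ha : a ∈ Psi D K F)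
    (hb : b ∈ Psi D K F) (hab : pr D a b = 0)
    (hno : ∀ u ∈ Psi D K F, u ≠ a → u ≠ D.neg a → pr D a u = 0) (t u : K) :
    xG hD b t * xG hD a u = xG hD a u * xG hD b t := by
  have hba := pr_zero_comm hD ha.1 hb.1 hab
  have hbb := H3.OT.pr_self hD hb.1
  have haa := H3.OT.pr_self hD ha.1
  have h1 : a ≠ b := by
    rintro rfl
    rw [haa] at hab
    exact absurd hab (by norm_num)
  have h2 : a ≠ D.neg b := by
    intro e
    rw [e, pr_neg_right hD hb.1, hbb] at hba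
    exact absurd hba (by norm_num)
  have h3 : D.commTerms b a = [] := by
    rw [List.eq_nil_iff_forall_not_mem]
    rintro ⟨v, C, i, j⟩ hv
    obtain ⟨hv1, -, -, hi, hj, e⟩ := commTerms_rt (checked_of_mem hD) hv
    have hvP : v ∈ Psi D K F := psi_of_rt hD hZ hv1 hb ha fun i _ => e i
    have e1 := pr_of_rt (checked_of_mem hD) hv1 hb.1 ha.1 (fun i _ => e i) a
    have e2 := pr_of_rt (checked_of_mem hD) hv1 hb.1 ha.1 (fun i _ => e i) b
    rw [hab, haa] at e1
    rw [hba, hbb] at e2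
    have h4 : v = a ∨ v = D.neg a := by
      by_contra hcon
      push Not at hcon
      have h5 := hno v hvP hcon.1 hcon.2
      rw [h5] at e1
      omega
    have h5 : pr D b v = 0 := by
      rcases h4 with rfl | rfl
      · exact hba
      · rw [pr_neg_right hD ha.1, hba, neg_zero]
    rw [h5] at e2
    omega
  have h4 := Cfsg.Agent.S1025.result (F := K) D hD b a hb.1 ha.1 h1 h2 t u
  have h5 : D.commWord K b a t u = [] := by
    show (D.commTerms b a).map _ = []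
    rw [h3]; rfl
  rw [h5, TorusRange.wordMat_nil, mul_one] at h4
  exact Units.ext h4.symm

variable [Fintype K] {p : ℕ} [Fact p.Prime] [CharP K p]

/-- `F ≤ ⟨T, X_a : a ∈ Psi⟩` -/
theorem le_GS (h : Hyp K p D) (hp2 : p ≠ 2) (hF : MinBad D K F) (hcl : Closed D (SF D K F))
    (hne : (SF D K F).Nonempty) (hS : ∀ r ∈ SF D K F, D.neg r ∉ SF D K F) : F ≤ GS D K (Psi D K F) := by
  have hU := uctx h hp2 hF hcl hne hS
  have hZ : Zf F ≤ D.diagonalSubgroup K := fun z hz =>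
    hU.center_le (x := ⟨z, (mem_Zf.1 hz).1⟩) (coe_mem_Zf.1 hz)
  have hN : F ≤ normalizer (GS D K (Psi D K F) : Set (GL D.Idx K)) := by
    refine le_trans (fun x hx => mem_inf.2 ⟨hF.le hx, ?_⟩) (H3.OT.cent_le_norm h.inList hZ)
    rw [mem_centralizer_iff]
    intro z hz
    exact ((mem_Zf.1 hz).2 x hx).symm
  by_contra hcon
  have h1 : F ⊓ GS D K (Psi D K F) < F := lt_of_le_of_ne inf_le_left fun e => hcon ((le_of_eq e.symm).trans inf_le_right)
  have h2 := hF.le_MF_of_lt (le_inf hF.tor le_sup_left) h1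
  apply hU.ne
  rw [eq_top_iff]
  intro f _
  refine hU.mem_of_conj_tor fun t ht => ?_
  rw [mem_subgroupOf]
  refine h2 (mem_inf.2 ⟨(f * t * f⁻¹).2, ?_⟩)
  rw [Subgroup.coe_mul, Subgroup.coe_mul, Subgroup.coe_inv]
  exact (mem_normalizer_iff.1 (hN f.2) t).1 (le_sup_left (a := D.diagonalSubgroup K) (mem_subgroupOf.1 ht))

theorem hop (h : Hyp K p D) (hF : MinBad D K F) (Q : Subgroup F) (hQ : Q.Normal) (hQp : IsPGroup p Q) : Q = ⊥ := by
  have h1 := hF.op h (Q := Q.map F.subtype) (map_subtype_le Q) (hQp.map _) (by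
    intro f hf
    rw [mem_normalizer_iff]
    intro x
    constructor
    · rintro ⟨y, hy, rfl⟩
      exact ⟨_, hQ.conj_mem y hy ⟨f, hf⟩, rfl⟩
    · rintro ⟨y, hy, e⟩
      refine ⟨_, hQ.conj_mem y hy ⟨f⁻¹, inv_mem hf⟩, ?_⟩
      change f⁻¹ * y * f⁻¹⁻¹ = x
      have e' : (y : GL D.Idx K) = f * x * f⁻¹ := e
      rw [e']
      group)
  exact (map_eq_bot_iff_of_injective Q F.subtype_injective).1 h1

/-- **rank one** -/
theorem rank_one (hD : InList D) {s : ℕ} (hs : s ∈ SF D K F) (hT : D.diagonalSubgroup K ≤ F)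
    (hns : D.neg s ∉ SF D K F) (hle : F ≤ DS D K s ⊔ D.diagonalSubgroup K) : F ≤ MF D K F := by
  intro f hf
  obtain ⟨A, t, ht, rfl⟩ := mem_DS_sup hD hs.1 (hle hf)
  have hA : ph hD hs.1 K A ∈ F := by
    have h1 := mul_mem hf (inv_mem (hT ht))
    rwa [mul_inv_cancel_right] at h1
  refine mul_mem ?_ (tor_le_MF hT ht)
  have hup : ∀ x : K, ph hD hs.1 K (up x) ∈ F := fun x => by
    rw [ph_up]
    exact hs.2 (xG_mem_rootSubgroup hD s x)
  have hdet := det2 A
  by_cases hc : A.1 1 0 = 0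
  · rw [hc, mul_zero, sub_zero] at hdet
    have ha : A.1 0 0 ≠ 0 := left_ne_zero_of_mul_eq_one hdet
    have e : A = up (A.1 0 1 * A.1 0 0) * hd (Units.mk0 _ ha) := by
      apply ext2
      · rw [mul2]
        show A.1 0 0 = 1 * A.1 0 0 + (A.1 0 1 * A.1 0 0) * 0
        ring
      · rw [mul2]
        show A.1 0 1 = 1 * 0 + (A.1 0 1 * A.1 0 0) * (((Units.mk0 _ ha)⁻¹ : Kˣ) : K)
        rw [Units.val_inv_eq_inv_val, Units.val_mk0, mul_assoc, mul_inv_cancel₀ ha]
        ring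
      · rw [mul2, hc]
        show (0 : K) = 0 * A.1 0 0 + 1 * 0
        ring
      · rw [mul2]
        show A.1 1 1 = 0 * 0 + 1 * (((Units.mk0 _ ha)⁻¹ : Kˣ) : K)
        rw [Units.val_inv_eq_inv_val, Units.val_mk0, mul_zero, zero_add, one_mul]
        exact eq_inv_of_mul_eq_one_right hdet
    rw [e, map_mul, ph_up, ph_hd]
    refine mul_mem (DF_le_MF F (rootSubgroup_le_DF hs (xG_mem_rootSubgroup hD s _))) (tor_le_MF hT ?_)
    exact hG_mem hD hs.1 (Units.ne_zero _)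
  · exfalso
    apply hns
    refine ⟨NPerm.neg_lt hD hs.1, ?_⟩
    -- the antidiagonal element
    set c := A.1 1 0 with hcdef
    have hB : ∃ B : Matrix.SpecialLinearGroup (Fin 2) K, ph hD hs.1 K B ∈ F ∧ B.1 0 0 = 0 ∧ B.1 0 1 = -c⁻¹ ∧
        B.1 1 0 = c ∧ B.1 1 1 = 0 := by
      refine ⟨up (-(A.1 0 0 * c⁻¹)) * (A * up (-(c⁻¹ * A.1 1 1))), ?_, ?_, ?_, ?_, ?_⟩
      · rw [map_mul, map_mul]
        exact mul_mem (hup _) (mul_mem hA (hup _))
      · rw [mul2, mul2, mul2]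
        show 1 * (A.1 0 0 * 1 + A.1 0 1 * 0) + (-(A.1 0 0 * c⁻¹)) * (c * 1 + A.1 1 1 * 0) = 0
        field_simp
        ring
      · rw [mul2, mul2, mul2]
        show 1 * (A.1 0 0 * (-(c⁻¹ * A.1 1 1)) + A.1 0 1 * 1) + (-(A.1 0 0 * c⁻¹)) *
          (c * (-(c⁻¹ * A.1 1 1)) + A.1 1 1 * 1) = -c⁻¹
        field_simp
        linear_combination -hdet
      · rw [mul2, mul2, mul2]
        show 0 * (A.1 0 0 * 1 + A.1 0 1 * 0) + 1 * (c * 1 + A.1 1 1 * 0) = c
        ring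
      · rw [mul2, mul2, mul2]
        show 0 * (A.1 0 0 * (-(c⁻¹ * A.1 1 1)) + A.1 0 1 * 1) + 1 * (c * (-(c⁻¹ * A.1 1 1)) + A.1 1 1 * 1) = 0
        field_simp
        ring
    obtain ⟨B, hBF, h00, h01, h10, h11⟩ := hB
    intro x hx
    obtain ⟨v, rfl⟩ := (mem_rootSubgroup_iff hD (D.neg s) x).1 hx
    rw [← ph_lo hD hs.1]
    have e : lo v = B * up (-(v * (c⁻¹ * c⁻¹))) * B⁻¹ := by
      rw [eq_mul_inv_iff_mul_eq]
      apply ext2
      · rw [mul2, mul2, h00, h01, h10]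
        show 1 * 0 + 0 * c = 0 * 1 + -c⁻¹ * 0
        ring
      · rw [mul2, mul2, h00, h01, h11]
        show 1 * -c⁻¹ + 0 * 0 = 0 * -(v * (c⁻¹ * c⁻¹)) + -c⁻¹ * 1
        ring
      · rw [mul2, mul2, h00, h10, h11]
        show v * 0 + 1 * c = c * 1 + 0 * 0
        ring
      · rw [mul2, mul2, h01, h10, h11]
        show v * -c⁻¹ + 1 * 0 = c * -(v * (c⁻¹ * c⁻¹)) + 0 * 1
        field_simp
    rw [e, map_mul, map_mul, map_inv]
    exact mul_mem (mul_mem hBF (hup _)) (inv_mem hBF)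

theorem norm_of_pair {T A B : Subgroup (GL D.Idx K)} (hA : T ≤ normalizer (A : Set (GL D.Idx K)))
    (hB : T ≤ normalizer (B : Set (GL D.Idx K))) : T ≤ normalizer ((A ⊔ B : Subgroup (GL D.Idx K)) : Set (GL D.Idx K)) := by
  have key : ∀ t ∈ T, ∀ x ∈ A ⊔ B, t * x * t⁻¹ ∈ A ⊔ B := by
    intro t ht x hx
    have h1 : A ⊔ B ≤ (A ⊔ B).comap (MulAut.conj t).toMonoidHom :=
      sup_le (fun x hx => mem_sup_left ((mem_normalizer_iff.1 (hA ht) x).1 hx))
        (fun x hx => mem_sup_right ((mem_normalizer_iff.1 (hB ht) x).1 hx))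
    exact h1 hx
  intro t ht
  rw [mem_normalizer_iff]
  intro x
  refine ⟨key t ht x, fun hx => ?_⟩
  have h1 := key t⁻¹ (inv_mem ht) _ hx
  have e : t⁻¹ * (t * x * t⁻¹) * t⁻¹⁻¹ = x := by group
  rwa [e] at h1

/-- `Psi` contains a root `b ≠ ±s` not orthogonal to `s ∈ S_F`. -/
theorem exists_psi (h : Hyp K p D) (hp2 : p ≠ 2) (hF : MinBad D K F) (hcl : Closed D (SF D K F))
    (hS : ∀ r ∈ SF D K F, D.neg r ∉ SF D K F) {s : ℕ} (hs : s ∈ SF D K F) :
    ∃ b ∈ Psi D K F, b ≠ s ∧ b ≠ D.neg s ∧ pr D s b ≠ 0 := by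
  have hD := h.inList
  have hU := uctx h hp2 hF hcl ⟨s, hs⟩ hS
  have hZ : Zf F ≤ D.diagonalSubgroup K := fun z hz =>
    hU.center_le (x := ⟨z, (mem_Zf.1 hz).1⟩) (coe_mem_Zf.1 hz)
  by_contra hcon
  push Not at hcon
  have hsP := mem_psi_of_SF hD hZ hs
  have hnP := neg_mem_psi hD hZ hsP
  have hnn := Reach.neg_neg hD hs.1
  have hnlt := NPerm.neg_lt hD hs.1
  have hno : ∀ u ∈ Psi D K F, u ≠ D.neg s → u ≠ D.neg (D.neg s) → pr D (D.neg s) u = 0 := by
    intro u hu h1 h2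
    rw [hnn] at h2
    have h3 := pr_zero_comm hD hs.1 hu.1 (hcon u hu h2 h1)
    refine pr_zero_comm hD hu.1 hnlt ?_
    rw [pr_neg_right hD hs.1, h3, neg_zero]
  -- `F` normalises `⟨X_s, X_{-s}⟩`
  have hN : F ≤ normalizer (DS D K s : Set (GL D.Idx K)) := by
    refine (le_GS h hp2 hF hcl ⟨s, hs⟩ hS).trans (sup_le ?_ (iSup₂_le fun b hb => ?_))
    · exact norm_of_pair (H274.OT.tor_le_normalizer_root hD hs.1) (H274.OT.tor_le_normalizer_root hD hnlt)
    · by_cases h1 : b = s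
      · rw [h1]
        exact (le_sup_left (a := D.rootSubgroup K s) (b := D.rootSubgroup K (D.neg s))).trans le_normalizer
      by_cases h2 : b = D.neg s
      · rw [h2]
        exact (le_sup_right (a := D.rootSubgroup K s) (b := D.rootSubgroup K (D.neg s))).trans le_normalizer
      have h3 := hcon b hb h1 h2
      have h4 : pr D (D.neg s) b = 0 := hno b hb h2 (by rw [hnn]; exact h1)
      refine le_trans ?_ (centralizer_le_normalizer _)
      rw [le_centralizer_iff]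
      refine sup_le ?_ ?_
      · intro x hx
        obtain ⟨u, rfl⟩ := (mem_rootSubgroup_iff hD s x).1 hx
        rw [mem_centralizer_iff]
        intro y hy
        obtain ⟨t, rfl⟩ := (mem_rootSubgroup_iff hD b y).1 hy
        exact comm_of_orth hD hZ hsP hb h3 hcon t u
      · intro x hx
        obtain ⟨u, rfl⟩ := (mem_rootSubgroup_iff hD (D.neg s) x).1 hx
        rw [mem_centralizer_iff]
        intro y hy
        obtain ⟨t, rfl⟩ := (mem_rootSubgroup_iff hD b y).1 hy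
        exact comm_of_orth hD hZ hnP hb h4 hno t u
  set N : Subgroup F := (DS D K s).subgroupOf F with hNdef
  have hNn : N.Normal := by
    refine ⟨fun x hx g => ?_⟩
    rw [hNdef, mem_subgroupOf] at hx ⊢
    exact (mem_normalizer_iff.1 (hN g.2) x).1 hx
  have hx1 : (⟨xG hD s 1, hs.2 (xG_mem_rootSubgroup hD s 1)⟩ : F) ∈ N ⊓ (DF D K F).subgroupOf F := by
    refine mem_inf.2 ⟨?_, ?_⟩
    · rw [hNdef, mem_subgroupOf]
      exact mem_sup_left (xG_mem_rootSubgroup hD s 1)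
    · rw [mem_subgroupOf]
      exact rootSubgroup_le_DF hs (xG_mem_rootSubgroup hD s 1)
  have hNM : ¬ N ≤ (MF D K F).subgroupOf F := by
    intro h1
    have h2 := inf_eq_bot_of_normal hU ((isPGroup_DF h hF.tor hcl hS).comap_subtype) (hop h hF) hNn h1
    rw [h2, mem_bot] at hx1
    have h3 := congrArg Subtype.val hx1
    exact one_ne_zero ((xG_eq_one_iff hD hs.1 _).1 h3)
  have hNT : N ⊔ (D.diagonalSubgroup K).subgroupOf F = ⊤ := by
    by_contra h1
    exact hNM (le_sup_left.trans (hU.ovr _ le_sup_right h1))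
  have hle : F ≤ DS D K s ⊔ D.diagonalSubgroup K := by
    intro f hf
    have h1 : (⟨f, hf⟩ : F) ∈ N ⊔ (D.diagonalSubgroup K).subgroupOf F := by rw [hNT]; exact mem_top _
    have h2 : N ⊔ (D.diagonalSubgroup K).subgroupOf F ≤ (DS D K s ⊔ D.diagonalSubgroup K).subgroupOf F :=
      sup_le (fun x hx => mem_subgroupOf.2 (mem_sup_left (mem_subgroupOf.1 hx)))
        (fun x hx => mem_subgroupOf.2 (mem_sup_right (mem_subgroupOf.1 hx)))
    exact h2 h1
  exact absurd (lt_of_le_of_lt (rank_one hD hs hF.tor (hS s hs) hle) (hF.MF_lt h)) (lt_irrefl _)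

end Cfsg.Agent.H28.OT
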