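import Cfsg.Agent.H28.OT.TabG2
import Cfsg.Agent.H28.OT.PsiU

/-!
# S2539, part 5, case `S_F ∩ -S_F = ∅` (helper28)

`caseA` : `D = F₄` or `G₂`, `F` least non-good, `S_F ≠ ∅`, `S_F ∩ -S_F = ∅` : contradiction.
-/

set_option autoImplicit false
set_option linter.unusedSectionVars false

namespace Cfsg.Agent.H28.OT

open Subgroup Cfsg.Lie Cfsg.Lie.ChevalleyDatum Cfsg.Agent.ChevalleyStructure Cfsg.Agent.ChevalleyStructure.Elts
open Cfsg.Agent.H412.OT
open Cfsg.Agent.H186.OT (Zf mem_Zf coe_mem_Zf Psi)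

universe u

variable {D : ChevalleyDatum} {K : Type u} [Field K] [Fintype K] {p : ℕ} [Fact p.Prime] [CharP K p]
  {F : Subgroup (GL D.Idx K)}

theorem hG_neg_one_sq (hD : InList D) {r : ℕ} (hr : r < D.nroots) : (hG hD r (-1 : K)) ^ 2 = 1 := by
  have h0 : (-1 : K) ≠ 0 := neg_ne_zero.2 one_ne_zero
  have hm := hG_mem (K := K) hD hr h0
  refine H893.OT.eq_of_chi hD (pow_mem hm 2) (one_mem _) fun s hs => ?_
  rw [pow_two, chi_mul hD hm hm, chi_hG hD hr hs h0, chi_one, ← mul_zpow]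
  norm_num

theorem chi_inv (hD : InList D) {t : GL D.Idx K} (ht : t ∈ D.diagonalSubgroup K) (s : ℕ) :
    chi D K t⁻¹ s = (chi D K t s)⁻¹ := by
  have h1 := chi_mul hD ht (inv_mem ht) s
  rw [mul_inv_cancel, chi_one] at h1
  exact eq_inv_of_mul_eq_one_right h1.symm

/-- **S2539, part 5, case (A).** -/
theorem caseA (h : Hyp K p D) (hDD : D = chevF4 ∨ D = chevG2) (hF : MinBad D K F) (hcl : Closed D (SF D K F))
    (hne : (SF D K F).Nonempty) (hS : ∀ r ∈ SF D K F, D.neg r ∉ SF D K F) : False := by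
  have hD := h.inList
  have hp2 : p ≠ 2 := h.ne2 (by rcases hDD with rfl | rfl <;> simp)
  have hfix : FixRoot D := by
    rcases hDD with rfl | rfl
    · exact fixRoot_F4
    · exact fixRoot_G2
  have htwo : TwoInv D := by
    rcases hDD with rfl | rfl
    · exact twoInv_F4
    · exact twoInv_G2
  have hU := uctx h hp2 hF hcl hne hS
  have hZ : Zf F ≤ D.diagonalSubgroup K := fun z hz =>
    hU.center_le (x := ⟨z, (mem_Zf.1 hz).1⟩) (coe_mem_Zf.1 hz)
  obtain ⟨s, hs⟩ := id hne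
  obtain ⟨b, hb, hbs, hbn, hbp⟩ := exists_psi h hp2 hF hcl hS hs
  obtain ⟨r, hr, r', hr', h1, h2, h3⟩ := htwo s hs.1 b hb.1 hbs hbn hbp
  have hsP := mem_psi_of_SF hD hZ hs
  have h0 : (-1 : K) ≠ 0 := neg_ne_zero.2 one_ne_zero
  have hm1 : (-1 : K) ≠ 1 := by
    intro e
    have h4 : (2 : K) = 0 := by
      linear_combination -e
    have h5 : ((2 : ℕ) : K) = 0 := by exact_mod_cast h4
    rw [CharP.cast_eq_zero_iff K p 2] at h5
    exact hp2 ((Nat.prime_dvd_prime_iff_eq Fact.out Nat.prime_two).1 h5)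
  have hev : ∀ k : ℤ, (-1 : K) ^ k = 1 → Even k := by
    intro k hk
    by_contra hodd
    rw [Int.not_even_iff_odd] at hodd
    rw [hodd.neg_one_zpow] at hk
    exact hm1 hk
  have hrT := hG_mem (K := K) hD hr h0
  have hrT' := hG_mem (K := K) hD hr' h0
  -- elements of `T` in the centre of `F`
  have hcen : ∀ (t : F), (t : GL D.Idx K) ∈ D.diagonalSubgroup K → t ∈ center F →
      chi D K t s = 1 ∧ chi D K t b = 1 := by
    intro t _ htc
    have h4 := coe_mem_Zf.2 htc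
    exact ⟨hsP.2 _ h4, hb.2 _ h4⟩
  have hU1 : (DF D K F).subgroupOf F ≠ ⊥ := by
    intro e
    have h4 : (⟨xG hD s 1, hs.2 (xG_mem_rootSubgroup hD s 1)⟩ : F) ∈ (DF D K F).subgroupOf F := by
      rw [mem_subgroupOf]
      exact rootSubgroup_le_DF hs (xG_mem_rootSubgroup hD s 1)
    rw [e, mem_bot] at h4
    have h5 := congrArg Subtype.val h4
    exact one_ne_zero ((xG_eq_one_iff hD hs.1 _).1 h5)
  refine false_of_noBad hU ((isPGroup_DF h hF.tor hcl hS).comap_subtype) hU1 (hop h hF)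
    (fun f b hb hbN => no_bad h hp2 hF hcl hne hS hfix hb hbN) ?_ ?_
  · refine ⟨⟨hG hD r (-1), hF.tor hrT⟩, hrT, ⟨hG hD r' (-1), hF.tor hrT'⟩, hrT', ?_, ?_, ?_, ?_, ?_⟩
    · have e : (⟨hG hD r (-1), hF.tor hrT⟩ : F) ^ 2 = 1 := Subtype.ext (hG_neg_one_sq hD hr)
      rw [e]
      exact one_mem _
    · have e : (⟨hG hD r' (-1), hF.tor hrT'⟩ : F) ^ 2 = 1 := Subtype.ext (hG_neg_one_sq hD hr')
      rw [e]
      exact one_mem _
    · intro hc
      obtain ⟨h4, h5⟩ := hcen _ hrT hc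
      rw [chi_hG hD hr hs.1 h0] at h4
      rw [chi_hG hD hr hb.1 h0] at h5
      exact h1 ⟨hev _ h4, hev _ h5⟩
    · intro hc
      obtain ⟨h4, h5⟩ := hcen _ hrT' hc
      rw [chi_hG hD hr' hs.1 h0] at h4
      rw [chi_hG hD hr' hb.1 h0] at h5
      exact h2 ⟨hev _ h4, hev _ h5⟩
    · intro hc
      have e : ∀ u < D.nroots, chi D K (hG hD r (-1 : K) * (hG hD r' (-1 : K))⁻¹) u =
          (-1 : K) ^ (pr D r u - pr D r' u) := by
        intro u hu
        rw [chi_mul hD hrT (inv_mem hrT'), chi_inv hD hrT', chi_hG hD hr hu h0, chi_hG hD hr' hu h0, ← zpow_neg,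
          ← zpow_add₀ h0, sub_eq_add_neg]
      obtain ⟨h4, h5⟩ := hcen _ (mul_mem hrT (inv_mem hrT')) hc
      have h4' := (e s hs.1).symm.trans h4
      have h5' := (e b hb.1).symm.trans h5
      exact h3 ⟨hev _ h4', hev _ h5'⟩
  · obtain ⟨γ, hγ⟩ := H893.OT.exists_gen K
    have hγT := hG_mem (K := K) hD hs.1 γ.ne_zero
    refine ⟨⟨hG hD s γ, hF.tor hγT⟩, hγT, fun hc => ?_⟩
    obtain ⟨h4, -⟩ := hcen _ (pow_mem hγT 2) hc
    have h5 : chi D K (hG hD s (γ : K) ^ 2) s = (γ : K) ^ (4 : ℤ) := by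
      rw [pow_two, chi_mul hD hγT hγT, chi_hG hD hs.1 hs.1 γ.ne_zero, H3.OT.pr_self hD hs.1,
        ← zpow_add₀ γ.ne_zero]
      norm_num
    have h6 : (γ : K) ^ (4 : ℤ) = 1 := h5.symm.trans h4
    have h7 := H893.OT.dvd_of_zpow hγ h6
    have h8 := Int.le_of_dvd (by norm_num) h7
    have h9 := h.card
    have h10 : (12 : ℤ) ≤ ((Fintype.card K - 1 : ℕ) : ℤ) := by
      have : 12 ≤ Fintype.card K - 1 := by omega
      exact_mod_cast this
    omega

end Cfsg.Agent.H28.OT
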