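import Cfsg.Agent.H179.OT.F4
import Cfsg.Agent.H28.OT.NoBad

/-!
# S2539, part 5, case `S_F ∩ -S_F = ∅`: tables for `F₄` and `G₂` (helper28)

* `fixRoot` : `FixRoot D` for `D = F₄`, `G₂` (`F₄`: helper179);
* `TwoInv D` : for roots `s`, `b ≠ ±s`, not orthogonal, there are roots `r`, `r'` such that `h_r(-1)`, `h_{r'}(-1)`,
  `h_r(-1) h_{r'}(-1)` act nontrivially on `⟨X_s, X_b⟩`.
-/

set_option autoImplicit false
set_option linter.unusedSectionVars false

namespace Cfsg.Agent.H28.OT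

open Cfsg Cfsg.Lie Cfsg.Lie.ChevalleyDatum
open Cfsg.Agent.ChevalleyStructure Cfsg.Agent.ChevalleyStructure.Elts Cfsg.Agent.ChevalleyStructure.RootVec
  Cfsg.Agent.ChevalleyStructure.RootVecTab
open Cfsg.Agent.H412.OT (pr)
open Cfsg.Agent.H179.OT.F4 (prK prK_eq par par_iff cond_iff)

/-- Two involutions. -/
def TwoInv (D : ChevalleyDatum) : Prop :=
  ∀ s < D.nroots, ∀ b < D.nroots, b ≠ s → b ≠ D.neg s → pr D s b ≠ 0 →
    ∃ r < D.nroots, ∃ r' < D.nroots, ¬ (Even (pr D r s) ∧ Even (pr D r b)) ∧ ¬ (Even (pr D r' s) ∧ Even (pr D r' b)) ∧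
      ¬ (Even (pr D r s - pr D r' s) ∧ Even (pr D r b - pr D r' b))

section Two

/-- the class of `r` modulo 2 -/
def cl (t : ℕ → ℕ → ℕ) (s b r : ℕ) : ℕ := Nat.add (Nat.mod (t r s) 2) (Nat.mul 2 (Nat.mod (t r b) 2))

def anyLT (f : ℕ → Bool) (n : ℕ) : Bool := !(allLT (fun i => !(f i)) n)

theorem anyLT_iff {f : ℕ → Bool} {n : ℕ} : anyLT f n = true ↔ ∃ i < n, f i = true := by
  rw [anyLT, Bool.not_eq_true', ← Bool.not_eq_true, allLT_iff]
  push Not
  refine exists_congr fun i => and_congr_right fun _ => ?_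
  cases f i <;> simp

def chkTwo (t : ℕ → ℕ → ℕ) (n : ℕ) : Bool :=
  allLT (fun s => allLT (fun b => bif Nat.beq b s then true else bif Nat.beq (Nat.add s b) (Nat.sub n 1) then true else
    bif Nat.beq (t s b) 4 then true else
      anyLT (fun r => bif Nat.beq (cl t s b r) 0 then false else
        anyLT (fun r' => bif Nat.beq (cl t s b r') 0 then false else !(Nat.beq (cl t s b r') (cl t s b r))) n) n) n) n

theorem even_iff_mod {x : ℤ} {m : ℕ} (h : x = (m : ℤ) - 4) : Even x ↔ m % 2 = 0 := by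
  rw [Int.even_iff]
  omega

theorem cl_def (t : ℕ → ℕ → ℕ) (s b r : ℕ) : cl t s b r = t r s % 2 + 2 * (t r b % 2) := rfl

theorem twoInv_of {D : ChevalleyDatum} (hD : InList D) {t : ℕ → ℕ → ℕ} {n : ℕ} (hn : D.nroots = n)
    (ht : ∀ r < n, ∀ s < n, pr D r s = (t r s : ℤ) - 4) (h : chkTwo t n = true) : TwoInv D := by
  intro s hs b hb h1 h2 h3
  have hneg := RootVec.neg_eq (checked_of_mem hD) hs
  rw [hn] at *
  rw [chkTwo, allLT_iff] at h
  have h4 := h s hs
  rw [allLT_iff] at h4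
  have h5 := h4 b hb
  have e1 : Nat.beq b s = false := by
    rw [← Bool.not_eq_true, beq_iff]
    exact h1
  have e2 : Nat.beq (Nat.add s b) (Nat.sub n 1) = false := by
    rw [← Bool.not_eq_true, beq_iff]
    intro e
    have e' : s + b = n - 1 := e
    apply h2
    rw [hneg]
    omega
  have e3 : Nat.beq (t s b) 4 = false := by
    rw [← Bool.not_eq_true, beq_iff]
    intro e
    apply h3
    rw [ht s hs b hb, e]
    norm_num
  rw [e1, e2, e3, cond_false, cond_false, cond_false, anyLT_iff] at h5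
  obtain ⟨r, hr, h6⟩ := h5
  cases e4 : Nat.beq (cl t s b r) 0
  · rw [e4, cond_false, anyLT_iff] at h6
    obtain ⟨r', hr', h7⟩ := h6
    cases e5 : Nat.beq (cl t s b r') 0
    · rw [e5, cond_false, Bool.not_eq_true', ← Bool.not_eq_true, beq_iff] at h7
      rw [← Bool.not_eq_true, beq_iff] at e4 e5
      rw [cl_def] at e4 e5
      rw [cl_def, cl_def] at h7
      refine ⟨r, hr, r', hr', ?_, ?_, ?_⟩
      · rw [even_iff_mod (ht r hr s hs), even_iff_mod (ht r hr b hb)]
        omega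
      · rw [even_iff_mod (ht r' hr' s hs), even_iff_mod (ht r' hr' b hb)]
        omega
      · rw [Int.even_sub, Int.even_sub, even_iff_mod (ht r hr s hs), even_iff_mod (ht r hr b hb),
          even_iff_mod (ht r' hr' s hs), even_iff_mod (ht r' hr' b hb)]
        omega
    · rw [e5, cond_true] at h7
      exact absurd h7 (by decide)
  · rw [e4, cond_true] at h6
    exact absurd h6 (by decide)

end Two

theorem twoInv_F4 : TwoInv chevF4 :=
  twoInv_of (by simp [InList]) (t := H179.OT.F4.t) rfl (fun r hr s hs => H179.OT.F4.pr_eq_t hr hs) (by decide +kernel)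

namespace G2

/-- The table `16 ^ (12 r + s) (⟨s, r^∨⟩ + 4)`. -/
def T : ℕ :=
  97901379469098902245546611646370752901199813384760411960414525837713072866172287702477354053161704694091774792911216553473947164784541422449275991799679485778299791103776086

def t (r s : ℕ) : ℕ := Nat.mod (Nat.shiftRight T (Nat.mul 4 (Nat.add (Nat.mul 12 r) s))) 16

theorem tab : allLT (fun r => allLT (fun s => decide (prK chevG2 r s = Int.sub (t r s) 4)) 12) 12 = true := by
  decide +kernel

theorem pr_eq_t {r s : ℕ} (hr : r < 12) (hs : s < 12) : pr chevG2 r s = (t r s : ℤ) - 4 := by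
  have h := tab
  simp only [allLT_iff, decide_eq_true_eq] at h
  rw [← prK_eq, h r hr s hs]
  rfl

theorem n12 : chevG2.nroots = 12 := rfl

/-- `⟨s, a^∨⟩ = 3` for some `s` : `a` is short -/
def isS (a : ℕ) : Bool := anyLT (fun s => Nat.beq (t a s) 7) 12

theorem isS_iff {a : ℕ} (ha : a < 12) : isS a = true ↔ ∃ s < 12, pr chevG2 a s = 3 := by
  rw [isS, anyLT_iff]
  refine exists_congr fun s => and_congr_right fun hs => ?_
  rw [beq_iff, pr_eq_t ha hs]
  omega

def sel (a b u v g : ℕ) : Bool :=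
  bif Nat.beq (t a g) u then bif Nat.beq (t b g) u then bif Nat.beq (t g a) v then Nat.beq (t g b) v
    else false else false else false

theorem sel_iff {a b g u v : ℕ} (ha : a < 12) (hb : b < 12) (hg : g < 12) :
    sel a b u v g = true ↔ (pr chevG2 a g = (u : ℤ) - 4 ∧ pr chevG2 b g = (u : ℤ) - 4) ∧
      (pr chevG2 g a = (v : ℤ) - 4 ∧ pr chevG2 g b = (v : ℤ) - 4) := by
  rw [pr_eq_t ha hg, pr_eq_t hb hg, pr_eq_t hg ha, pr_eq_t hg hb, sel, cond_iff, cond_iff, cond_iff, beq_iff, beq_iff,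
    beq_iff, beq_iff]
  constructor
  · rintro ⟨h1, h2, h3, h4⟩
    exact ⟨⟨by omega, by omega⟩, by omega, by omega⟩
  · rintro ⟨⟨h1, h2⟩, h3, h4⟩
    exact ⟨by omega, by omega, by omega, by omega⟩

def chk : Bool :=
  allLT (fun a => allLT (fun b => bif Nat.beq a b then true else bif Nat.beq (Nat.add a b) 11 then true else
    bif (isS a).xor (isS b) then true else bif par (sel a b 5 5) 12 then true else
      bif par (sel a b 5 7) 12 then true else par (sel a b 7 5) 12) 12) 12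

theorem chk_true : chk = true := by decide +kernel

theorem isS_eq {a b : ℕ} {w : ℕ → ℕ} (hw : ∀ g < 12, w g < 12)
    (hpr : ∀ r < 12, ∀ s < 12, pr chevG2 (w r) (w s) = pr chevG2 r s) (ha : a < 12) (hb : b < 12)
    (hab : w a = b) (h : isS a = true) : isS b = true := by
  rw [isS_iff ha] at h
  rw [isS_iff hb]
  obtain ⟨s, hs, h1⟩ := h
  refine ⟨w s, hw s hs, ?_⟩
  rw [← hab, hpr a ha s hs, h1]

theorem exists_fixed_aux {a b u v : ℕ} {w : ℕ → ℕ} (hw : ∀ g < 12, w g < 12) (hw2 : ∀ g < 12, w (w g) = g)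
    (hpr : ∀ r < 12, ∀ s < 12, pr chevG2 (w r) (w s) = pr chevG2 r s) (ha : a < 12) (hb : b < 12)
    (hab : w a = b) (hv : v ≠ 4) (h : par (sel a b u v) 12 = true) :
    ∃ g < 12, w g = g ∧ pr chevG2 g a ≠ 0 := by
  rw [par_iff] at h
  have hba : w b = a := by rw [← hab, hw2 a ha]
  obtain ⟨g, hg, hg2⟩ := H179.OT.exists_fixed_of_odd h w (fun g hg => by
    obtain ⟨hg1, hg2⟩ := Finset.mem_filter.1 hg
    rw [Finset.mem_range] at hg1
    rw [sel_iff ha hb hg1] at hg2
    obtain ⟨⟨h1, h2⟩, h3, h4⟩ := hg2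
    refine Finset.mem_filter.2 ⟨Finset.mem_range.2 (hw g hg1), ?_⟩
    rw [sel_iff ha hb (hw g hg1)]
    refine ⟨⟨?_, ?_⟩, ?_, ?_⟩
    · rw [← hba, hpr b hb g hg1, h2]
    · rw [← hab, hpr a ha g hg1, h1]
    · rw [← hba, hpr g hg1 b hb, h4]
    · rw [← hab, hpr g hg1 a ha, h3]) (fun g hg => hw2 g (Finset.mem_range.1 (Finset.mem_filter.1 hg).1))
  obtain ⟨hg1, hg3⟩ := Finset.mem_filter.1 hg
  rw [Finset.mem_range] at hg1
  rw [sel_iff ha hb hg1] at hg3
  refine ⟨g, hg1, hg2, ?_⟩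
  rw [hg3.2.1]
  omega

theorem exists_fixed {w : ℕ → ℕ} (hw : ∀ g < 12, w g < 12) (hw2 : ∀ g < 12, w (w g) = g)
    (hpr : ∀ r < 12, ∀ s < 12, pr chevG2 (w r) (w s) = pr chevG2 r s) {a : ℕ}
    (ha : a < 12) (h1 : w a ≠ chevG2.neg a) : ∃ g < 12, w g = g ∧ pr chevG2 g a ≠ 0 := by
  have hin : InList chevG2 := by simp [InList]
  have hneg := RootVec.neg_eq (checked_of_mem hin) (r := a) ha
  rw [n12] at hneg
  have hb := hw a ha
  by_cases h2 : w a = a
  · refine ⟨a, ha, h2, ?_⟩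
    have : pr chevG2 a a = 2 := (StringMem.rootOK_of_mem hin (r := a) ha).cartan_self
    rw [this]
    norm_num
  have hL : isS a = isS (w a) := by
    rw [Bool.eq_iff_iff]
    exact ⟨isS_eq hw hpr ha hb rfl, isS_eq hw hpr hb ha (hw2 a ha)⟩
  have h := chk_true
  rw [chk, allLT_iff] at h
  have h3 := h a ha
  rw [allLT_iff] at h3
  have h4 := h3 (w a) hb
  have e1 : Nat.beq a (w a) = false := by
    rw [← Bool.not_eq_true, beq_iff]
    exact fun e => h2 e.symm
  have e2 : Nat.beq (Nat.add a (w a)) 11 = false := by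
    rw [← Bool.not_eq_true, beq_iff]
    intro e
    have : a + w a = 11 := e
    apply h1
    rw [hneg]
    omega
  rw [e1, e2, hL, Bool.xor_self, cond_false, cond_false, cond_false] at h4
  cases e3 : par (sel a (w a) 5 5) 12
  · rw [e3, cond_false] at h4
    cases e4 : par (sel a (w a) 5 7) 12
    · rw [e4, cond_false] at h4
      exact exists_fixed_aux hw hw2 hpr ha hb rfl (by norm_num) h4
    · exact exists_fixed_aux hw hw2 hpr ha hb rfl (by norm_num) e4
  · exact exists_fixed_aux hw hw2 hpr ha hb rfl (by norm_num) e3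

end G2

theorem twoInv_G2 : TwoInv chevG2 :=
  twoInv_of (by simp [InList]) (t := G2.t) rfl (fun r hr s hs => G2.pr_eq_t hr hs) (by decide +kernel)

theorem fixRoot_G2 : FixRoot chevG2 := fun _ hw hw2 hpr _ ha h1 => G2.exists_fixed hw hw2 hpr ha h1

theorem fixRoot_F4 : FixRoot chevF4 := fun _ hw hw2 hpr _ ha h1 => H179.OT.F4.exists_fixed hw hw2 hpr ha h1

end Cfsg.Agent.H28.OT
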