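import Mathlib
import Cfsg.Agent.H175.OT.Uni
import Cfsg.Agent.H274.OT.BT
import Cfsg.Agent.H460.OT.BruConc
import Cfsg.Agent.H428.OT.CT
import Cfsg.Agent.H501.OT.Conc

/-!
# S2539, part 5, case `S_F ∩ -S_F = ∅`: the unipotent context (helper28)

`uctx` : for `F` a least non-good group with `S_F ≠ ∅`, `S_F ∩ -S_F = ∅`, helper175's `UCtx` holds for `T`, `D_F`,
`M_F` as subgroups of `F`.
-/

set_option autoImplicit false
set_option linter.unusedSectionVars false

namespace Cfsg.Agent.H28.OT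

open Subgroup Cfsg.Lie Cfsg.Agent.ChevalleyStructure Cfsg.Agent.ChevalleyStructure.Elts Cfsg.Agent.H412.OT
open Cfsg.Agent.ChevalleyStructure.CoxeterGeomTypes Cfsg.Agent.Nodes Cfsg.Agent.Nodes.RGDChev
open Cfsg.Agent.H460.OT (exists_type)

universe u

theorem mem_norm_sub {G : Type*} [Group G] {A F : Subgroup G} (hA : A ≤ F) {x : F} :
    x ∈ normalizer ((A.subgroupOf F : Subgroup F) : Set F) ↔ (x : G) ∈ normalizer (A : Set G) := by
  rw [mem_normalizer_iff, mem_normalizer_iff]
  constructor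
  · intro h t
    constructor
    · intro ht
      exact (h ⟨t, hA ht⟩).1 ht
    · intro ht
      have h1 : t ∈ F := by
        have h2 := mul_mem (mul_mem (inv_mem x.2) (hA ht)) x.2
        have e : (x : G)⁻¹ * ((x : G) * t * (x : G)⁻¹) * (x : G) = t := by group
        rwa [e] at h2
      exact (h ⟨t, h1⟩).2 ht
  · intro h t
    exact h t

variable {D : ChevalleyDatum} {K : Type u} [Field K] [Fintype K] {p : ℕ} [Fact p.Prime] [CharP K p]
  {F : Subgroup (GL D.Idx K)}

/-- `D_F` is a `p`-group if `S_F ∩ -S_F = ∅` -/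
theorem isPGroup_DF (h : Hyp K p D) (hT : D.diagonalSubgroup K ≤ F) (hcl : Closed D (SF D K F))
    (hS : ∀ r ∈ SF D K F, D.neg r ∉ SF D K F) : IsPGroup p ↥(DF D K F) := by
  obtain ⟨P, -, hP, -, -, h1, -⟩ := H460.OT.GS_struct (p := p) (H274.OT.mem7 h.mem) (H274.OT.card13 h) hT hcl
  exact hP.to_le (iSup₂_le fun r hr => h1 r hr (hS r hr))

theorem tcop (h : Hyp K p D) : (Nat.card (D.diagonalSubgroup K)).Coprime p := by
  obtain ⟨l, M, hp⟩ := exists_type (H274.OT.mem7 h.mem)
  have : Finite (GL D.Idx K) := inferInstance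
  exact (rgd_GL (K := K) hp M.toCoxeterSystem p).tcop

theorem tor_norm_DF (h : Hyp K p D) (hF : MinBad D K F) :
    D.diagonalSubgroup K ≤ normalizer (DF D K F : Set (GL D.Idx K)) :=
  (le_inf hF.tor (tor_le_norm D K)).trans (H274.OT.norm_le_normalizer_DF h hF.le)

theorem MF_le_norm (h : Hyp K p D) (hF : MinBad D K F) :
    MF D K F ≤ normalizer (DF D K F : Set (GL D.Idx K)) :=
  sup_le le_normalizer (H274.OT.norm_le_normalizer_DF h hF.le)

/-- The unipotent context. -/
theorem uctx (h : Hyp K p D) (hp2 : p ≠ 2) (hF : MinBad D K F) (hcl : Closed D (SF D K F))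
    (hne : (SF D K F).Nonempty) (hS : ∀ r ∈ SF D K F, D.neg r ∉ SF D K F) :
    H175.OT.UCtx ((D.diagonalSubgroup K).subgroupOf F) ((DF D K F).subgroupOf F) ((MF D K F).subgroupOf F) := by
  classical
  have hD := h.inList
  have hMF := MF_le (D := D) (K := K) F
  have hDF := DF_le (D := D) (K := K) F
  have hDM := DF_le_MF (D := D) (K := K) F
  have hpU := isPGroup_DF h hF.tor hcl hS
  have hfin : Finite (GL D.Idx K) := inferInstance
  have hU1 : DF D K F ≠ ⊥ := by
    intro e
    obtain ⟨r, hr⟩ := hne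
    exact H274.OT.root_ne_bot hD hr.1 (le_bot_iff.1 (e ▸ rootSubgroup_le_DF hr))
  have hloc := hF.loc h hDF hpU hU1 (tor_norm_DF h hF)
  have hpU' : IsPGroup p ↥((DF D K F).subgroupOf F) := hpU.comap_subtype
  constructor
  · intro s hs t ht
    exact Subtype.ext (H501.OT.tor_comm hD hs ht)
  · exact fun t ht => tor_le_MF hF.tor ht
  · exact fun t ht => hDM ht
  · intro x hx
    rw [mem_norm_sub hF.tor] at hx
    exact norm_le_MF F ⟨x.2, hx⟩
  · intro m hm
    obtain ⟨d, hd, n, hn, hn', e⟩ := (H274.OT.mem_MF h hF.le).1 hm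
    exact ⟨⟨d, hDF hd⟩, hd, ⟨n, hn⟩, (mem_norm_sub hF.tor).2 hn', Subtype.ext e⟩
  · intro m hm
    rw [mem_norm_sub hDF]
    exact MF_le_norm h hF hm
  · intro m hm
    have hm' := (mem_norm_sub hDF).1 hm
    exact hloc ⟨m.2, hm'⟩
  · intro H hTH hH
    have h1 : D.diagonalSubgroup K ≤ H.map F.subtype := fun t ht => ⟨⟨t, hF.tor ht⟩, hTH ht, rfl⟩
    have h2 : H.map F.subtype < F := by
      refine lt_of_le_of_ne (map_subtype_le H) fun e => hH ?_
      rw [eq_top_iff]
      intro x _
      have h3 : (x : GL D.Idx K) ∈ H.map F.subtype := by rw [e]; exact x.2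
      obtain ⟨y, hy, e2⟩ := h3
      rwa [← Subtype.ext e2]
    have h3 := hF.le_MF_of_lt h1 h2
    intro x hx
    exact h3 ⟨x, hx, rfl⟩
  · intro e
    rw [subgroupOf_eq_top] at e
    exact absurd (lt_of_le_of_lt e (hF.MF_lt h)) (lt_irrefl _)
  · intro x hx
    -- `x` normalises `M`, hence `U`
    have hx' : (x : GL D.Idx K) ∈ normalizer (MF D K F : Set (GL D.Idx K)) := (mem_norm_sub hMF).1 hx
    have key : (DF D K F).map (MulAut.conj (x : GL D.Idx K)).toMonoidHom ≤ DF D K F := by
      have h1 : (DF D K F).map (MulAut.conj (x : GL D.Idx K)).toMonoidHom ≤ MF D K F := by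
        rintro _ ⟨d, hd, rfl⟩
        exact (mem_normalizer_iff.1 hx' d).1 (hDM hd)
      refine hF.le_DF h (h1.trans hMF) (hpU.map _) ?_
      intro t ht
      have ht' : (x : GL D.Idx K)⁻¹ * t * x ∈ MF D K F := by
        have := (mem_normalizer_iff.1 (inv_mem hx') t).1 (tor_le_MF hF.tor ht)
        rwa [inv_inv] at this
      have h2 := MF_le_norm h hF ht'
      rw [mem_normalizer_iff] at h2 ⊢
      intro y
      have e : ∀ z : GL D.Idx K, z ∈ (DF D K F).map (MulAut.conj (x : GL D.Idx K)).toMonoidHom ↔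
          (x : GL D.Idx K)⁻¹ * z * x ∈ DF D K F := by
        intro z
        constructor
        · rintro ⟨d, hd, rfl⟩
          change (x : GL D.Idx K)⁻¹ * ((x : GL D.Idx K) * d * (x : GL D.Idx K)⁻¹) * x ∈ _
          have e : (x : GL D.Idx K)⁻¹ * ((x : GL D.Idx K) * d * (x : GL D.Idx K)⁻¹) * x = d := by group
          rwa [e]
        · intro hz
          refine ⟨_, hz, ?_⟩
          change (x : GL D.Idx K) * ((x : GL D.Idx K)⁻¹ * z * x) * (x : GL D.Idx K)⁻¹ = z
          group
      rw [e, e, h2]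
      have e2 : (x : GL D.Idx K)⁻¹ * t * x * ((x : GL D.Idx K)⁻¹ * y * x) * ((x : GL D.Idx K)⁻¹ * t * x)⁻¹ =
          (x : GL D.Idx K)⁻¹ * (t * y * t⁻¹) * x := by group
      rw [e2]
    have hN : (x : GL D.Idx K) ∈ normalizer (DF D K F : Set (GL D.Idx K)) := by
      have e := eq_of_le_of_card_ge key (by
        rw [Nat.card_congr ((DF D K F).equivMapOfInjective _
          (MulAut.conj (x : GL D.Idx K)).injective).symm.toEquiv])
      rw [mem_normalizer_iff]
      intro y
      constructor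
      · intro hy
        rw [← e]
        exact ⟨y, hy, rfl⟩
      · intro hy
        rw [← e] at hy
        obtain ⟨z, hz, e3⟩ := hy
        have : z = y := (MulAut.conj (x : GL D.Idx K)).injective e3
        rwa [← this]
    exact hloc ⟨x.2, hN⟩
  · intro x hx
    refine H428.OT.mem_tor_of_comm (by have := h.card; omega) hD (hF.le x.2) fun t ht => ?_
    exact congrArg Subtype.val (hx ⟨t, hF.tor ht⟩ ht)
  · obtain ⟨n, hn⟩ := (IsPGroup.iff_card.1 hpU')
    have h2 : Nat.card ((D.diagonalSubgroup K).subgroupOf F) = Nat.card (D.diagonalSubgroup K) :=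
      Nat.card_congr (subgroupOfEquivOfLe hF.tor).toEquiv
    rw [hn, h2]
    exact (Nat.Coprime.pow_right n (tcop h)).symm
  · obtain ⟨n, hn⟩ := (IsPGroup.iff_card.1 hpU')
    rw [hn]
    exact Odd.pow ((Fact.out : p.Prime).odd_of_ne_two hp2)
  · have := hpU'.isNilpotent
    infer_instance

end Cfsg.Agent.H28.OT
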